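import Cfsg.Agent.H527.Co3.Asm
import Cfsg.Agent.H738.C3.SporFinal
import Cfsg.Agent.H738.C3.AltRow
import Cfsg.Agent.H738.C3.Char2Rows
import Cfsg.Agent.H375.C3.RowPSL
import Cfsg.Agent.H105.C3.RowPSp
import Cfsg.Agent.H601.C3.RowPSU
import Cfsg.Agent.H100.C3.RowPOmega
import Cfsg.Agent.H165.Co3.Rows
import Cfsg.Agent.H165.Co3.Hex
import Cfsg.Agent.H169.Co3.RowF4
import Cfsg.Agent.H129.Co3.TwE6
import Cfsg.Agent.H275.Co3.RowE6
import Cfsg.Agent.H249.Co3.E7Int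
import Cfsg.Agent.H169.Co3.RowE8F

/-!
# S1920: the rows of case B (helper527)

`rows` : all rows of case B.
-/

set_option autoImplicit false

open Cfsg

namespace Cfsg.Agent.H527.Co3

universe u

/-- **All rows of case B.** -/
theorem rows : RowsB.{u} where
  alt := Cfsg.Agent.H738.C3.row_alt
  psl := Cfsg.Agent.H375.C3.row_psl_of fun _ _ _ _ _ _ _ _ _ C h => Cfsg.Agent.H738.C3.false_of_lieTwo C h
  psp := Cfsg.Agent.H105.C3.row_psp_of fun _ _ _ _ _ _ _ _ _ C h => Cfsg.Agent.H738.C3.false_of_lieTwo C h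
  psu := Cfsg.Agent.H601.C3.row_psu_of fun _ _ _ _ _ _ _ _ _ C h => Cfsg.Agent.H738.C3.false_of_lieTwo C h
  pomegaOdd := Cfsg.Agent.H100.C3.row_odd
  pomegaPlus := Cfsg.Agent.H100.C3.row_plus_of fun _ _ _ _ _ _ _ _ _ C h => Cfsg.Agent.H738.C3.false_of_lieTwo C h
  pomegaMinus := Cfsg.Agent.H100.C3.row_minus_of fun _ _ _ _ _ _ _ _ _ C h => Cfsg.Agent.H738.C3.false_of_lieTwo C h
  g2 := Cfsg.Agent.H165.Co3.row_g2
  f4 := Cfsg.Agent.H169.Co3.f4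
  e6 := Cfsg.Agent.H275.Co3.row_e6
  e7 := Cfsg.Agent.H249.Co3.row_e7
  e8 := Cfsg.Agent.H169.Co3.e8
  te6 := Cfsg.Agent.H129.Co3.row_te6
  td4 := Cfsg.Agent.H165.Co3.row_td4
  sz := Cfsg.Agent.H738.C3.row_sz
  ree := Cfsg.Agent.H165.Co3.row_ree
  tf4 := Cfsg.Agent.H738.C3.row_tf4
  tits := Cfsg.Agent.H738.C3.row_tits
  spor := Cfsg.Agent.H738.C3.row_spor

end Cfsg.Agent.H527.Co3
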